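import Cfsg.Agent.TwoF.Red.Main
import Cfsg.Agent.S0205
import Cfsg.Agent.S0000

/-!
# TwoF, RED: the rows from the boxes (helper7)

`S3088.result := main88 (allRows B) ..`, `S3089.result := main89 (allRows B) oddOrder ..`.
-/

set_option autoImplicit false

namespace Cfsg.Agent.TwoF.Red

theorem allRows (B : Boxes) : AllRows := fun p _ S _ _ _ h => B.row p S h S0000.result

theorem oddOrder (S : Type) [Group S] [Finite S] (h : Odd (Nat.card S)) : Group.IsSolvable S := S0205.result h

end Cfsg.Agent.TwoF.Red
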