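import Cfsg.Agent.TwoF.Gen.ACD

/-!
# TwoF, RED: an offender that is not linear over the commuting algebra (helper7)
-/

set_option autoImplicit false
set_option linter.unusedSectionVars false

namespace Cfsg.Agent.TwoF.Red

open Module Gen
open scoped Pointwise

variable {k : Type*} [Field k] {Y : Type*} [Group Y] {V : Type*} [AddCommGroup V] [Module k V]
  {ρ : Representation k Y V}

/-- the conjugation action on the endomorphisms -/
abbrev cjE (ρ : Representation k Y V) : Representation k Y (End k V) := ρ.linHom ρ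

theorem cjE_apply (a : Y) (f : End k V) : cjE ρ a f = ρ a * f * ρ a⁻¹ := (mul_assoc _ _ _).symm

theorem cjE_mul_rho (a : Y) (f : End k V) : cjE ρ a f * ρ a = ρ a * f := by
  rw [cjE_apply, mul_assoc, ← map_mul, inv_mul_cancel, map_one, mul_one]

theorem cjE_eq_iff {a : Y} {f g : End k V} : cjE ρ a f = g ↔ g * ρ a = ρ a * f :=
  ⟨fun h => h ▸ cjE_mul_rho a f, fun h => by
    rw [cjE_apply, ← h, mul_assoc, ← map_mul, mul_inv_cancel, map_one, mul_one]⟩

theorem cjE_mul (a : Y) (f g : End k V) : cjE ρ a (f * g) = cjE ρ a f * cjE ρ a g :=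
  cjE_eq_iff.2 (by rw [mul_assoc, cjE_mul_rho, ← mul_assoc, cjE_mul_rho, mul_assoc])

theorem cjE_one (a : Y) : cjE ρ a 1 = 1 := cjE_eq_iff.2 (by rw [one_mul, mul_one])

theorem cjE_pow (a : Y) (f : End k V) (n : ℕ) : cjE ρ a (f ^ n) = cjE ρ a f ^ n := by
  induction n with
  | zero => rw [pow_zero, pow_zero, cjE_one]
  | succ n ih => rw [pow_succ, pow_succ, cjE_mul, ih]

/-- the commuting algebra -/
def cr (ρ : Representation k Y V) (B : Subgroup Y) : Subalgebra k (End k V) :=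
  (fx (cjE ρ) B).toSubalgebra (fun b _ => cjE_one b) fun f g hf hg b hb => by rw [cjE_mul, hf b hb, hg b hb]

theorem mem_cr {B : Subgroup Y} {f : End k V} : f ∈ cr ρ B ↔ f ∈ fx (cjE ρ) B := Iff.rfl

theorem mem_cr' {B : Subgroup Y} {f : End k V} : f ∈ cr ρ B ↔ ∀ b ∈ B, f * ρ b = ρ b * f :=
  forall₂_congr fun _ _ => cjE_eq_iff

theorem injective_of_irr {H : Subgroup Y} (h : Irr ρ H) {f : End k V} (hf : f ∈ cr ρ H) (h0 : f ≠ 0) :
    Function.Injective f := by
  rcases h (LinearMap.ker f) (fun b hb v hv => by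
    rw [LinearMap.mem_ker, ← End.mul_apply, mem_cr'.1 hf b hb, End.mul_apply, LinearMap.mem_ker.1 hv, map_zero])
    with h1 | h1
  · exact LinearMap.ker_eq_bot.1 h1
  · exact absurd (LinearMap.ker_eq_top.1 h1) h0

theorem isField_cr [Finite V] [Nontrivial V] {H : Subgroup Y} (h : Irr ρ H) : IsField (cr ρ H) := by
  have : Finite (End k V) := Finite.of_injective _ DFunLike.coe_injective
  have : NoZeroDivisors (cr ρ H) := ⟨fun {f g} e => by
    by_contra hc
    push Not at hc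
    refine hc.2 (Subtype.ext (LinearMap.ext fun v => injective_of_irr h f.2 (fun e' => hc.1 (Subtype.ext e')) ?_))
    exact (LinearMap.congr_fun (congrArg Subtype.val e) v).trans (map_zero _).symm⟩
  have : IsDomain (cr ρ H) := NoZeroDivisors.to_isDomain _
  exact Finite.isDomain_to_isField _

/-- the Artin-Schreier element -/
theorem exists_as [Finite V] [Nontrivial V] [Finite Y] {p : ℕ} [Fact p.Prime] [CharP k p] {K A : Subgroup Y}
    [K.Normal] (hA : IsElementaryAbelian p A) (hirr : Irr ρ (K ⊔ A)) (hl : ¬ LinOver ρ K A) :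
    ∃ B < A, ∃ a ∈ A, ∃ f ∈ cr ρ (K ⊔ B), ρ a * f = (f + 1) * ρ a ∧ Nat.card A ≤ Nat.card B * p := by
  have hp : p.Prime := Fact.out
  have : CharP (End k V) p := charP_of_injective_algebraMap (algebraMap k _).injective p
  have : CharP (cr ρ (K ⊔ A)) p := charP_of_injective_algebraMap (algebraMap k _).injective p
  have : Finite (End k V) := Finite.of_injective _ DFunLike.coe_injective
  let _ := (isField_cr hirr).toField
  have hcomm : ∀ {f g : End k V}, f ∈ cr ρ (K ⊔ A) → g ∈ cr ρ (K ⊔ A) → f * g = g * f := fun hf hg =>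
    congrArg Subtype.val ((isField_cr hirr).mul_comm ⟨_, hf⟩ ⟨_, hg⟩)
  obtain ⟨B, ⟨hBA, hB⟩, hmax⟩ := (wellFounded_gt (α := Subgroup Y)).has_min
    {B | B ≤ A ∧ ¬ fx (cjE ρ) (K ⊔ B) ≤ fx (cjE ρ) (K ⊔ A)} ⟨⊥, bot_le, fun h => hl fun f hf a ha =>
      mem_cr'.1 (h (by rw [sup_bot_eq]; exact mem_cr'.2 hf)) a (Subgroup.mem_sup_right ha)⟩
  have hinv : ∀ X ≤ A, Inv (cjE ρ) A (fx (cjE ρ) (K ⊔ X)) := fun X hX => by
    rw [fx_sup]
    refine (inv_fx_normal K A).inf fun a ha f hf x hx => ?_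
    rw [← rho_mul, elemAb_comm hA (hX hx) ha, rho_mul, hf x hx]
  have hM : ∀ a ∈ A, a ∉ B → ∀ f ∈ cr ρ (K ⊔ B), cjE ρ a f = f → f ∈ cr ρ (K ⊔ A) := fun a ha haB f hf e => by
    by_contra hc
    refine hmax (B ⊔ Subgroup.zpowers a) ⟨sup_le hBA ((Subgroup.zpowers_le).2 ha), fun h => hc (h ?_)⟩
      (left_lt_sup.2 fun h => haB (h (Subgroup.mem_zpowers a)))
    rw [← sup_assoc, fx_sup]
    exact ⟨hf, mem_fx_zpowers.2 e⟩
  obtain ⟨f₀, h1, h2, h3⟩ := exists_mem_fxQ (elemAb_isPGroup hA) (hinv A le_rfl) (hinv B hBA) hB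
  obtain ⟨a, ha, h4⟩ : ∃ a ∈ A, cjE ρ a f₀ - f₀ ≠ 0 := by
    by_contra hc
    push Not at hc
    rw [fx_sup] at h1 h2
    exact h2 ⟨h1.1, fun a ha => sub_eq_zero.1 (hc a ha)⟩
  obtain ⟨μ, hμ⟩ := (isField_cr hirr).mul_inv_cancel (a := ⟨_, h3 a ha⟩) fun e => h4 (congrArg Subtype.val e)
  have hμ' : μ.1 * (cjE ρ a f₀ - f₀) = 1 := (hcomm μ.2 (h3 a ha)).trans (congrArg Subtype.val hμ)
  have hle : cr ρ (K ⊔ A) ≤ cr ρ (K ⊔ B) := fx_anti (sup_le_sup_left hBA K)
  obtain ⟨f, hf, hfa, hfA⟩ : ∃ f ∈ cr ρ (K ⊔ B), cjE ρ a f = f + 1 ∧ ∀ b ∈ A, cjE ρ b f - f ∈ cr ρ (K ⊔ A) := by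
    have h5 : ∀ b ∈ A, cjE ρ b (μ.1 * f₀) - μ.1 * f₀ = μ.1 * (cjE ρ b f₀ - f₀) := fun b hb => by
      rw [cjE_mul, μ.2 b (Subgroup.mem_sup_right hb), mul_sub]
    exact ⟨μ.1 * f₀, mul_mem (hle μ.2) h1, by rw [← hμ', ← h5 a ha, add_sub_cancel],
      fun b hb => h5 b hb ▸ mul_mem μ.2 (h3 b hb)⟩
  have hfn : f ∉ cr ρ (K ⊔ A) := fun h => by
    rw [h a (Subgroup.mem_sup_right ha)] at hfa
    exact one_ne_zero (left_eq_add.1 hfa)
  have haB : a ∉ B := fun h => hfn (by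
    rw [hf a (Subgroup.mem_sup_right h)] at hfa
    exact absurd (left_eq_add.1 hfa) one_ne_zero)
  have hfc : ∀ g ∈ cr ρ (K ⊔ A), Commute f g := fun g hg => by
    have h5 : f * g - g * f ∈ cr ρ (K ⊔ A) := hM a ha haB _ (sub_mem (mul_mem hf (hle hg)) (mul_mem (hle hg) hf)) (by
      rw [map_sub, cjE_mul, cjE_mul, hfa, hg a (Subgroup.mem_sup_right ha)]
      noncomm_ring)
    have h6 : ∀ n : ℕ, f * g ^ (n + 1) - g ^ (n + 1) * f = ((n + 1 : ℕ) : End k V) * (g ^ n * (f * g - g * f)) := by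
      intro n
      induction n with
      | zero => simp
      | succ n ih =>
        have h7 : f * g ^ (n + 2) - g ^ (n + 2) * f =
            g * (f * g ^ (n + 1) - g ^ (n + 1) * f) + (f * g - g * f) * g ^ (n + 1) := by
          rw [pow_succ' g (n + 1)]
          noncomm_ring
        rw [h7, ih, hcomm h5 (pow_mem hg _), ← mul_assoc, ← Nat.cast_comm, mul_assoc, ← mul_assoc g, ← pow_succ',
          Nat.cast_succ (n + 1), add_mul, one_mul]
    have := Fintype.ofFinite (cr ρ (K ⊔ A))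
    obtain ⟨n, -, hn⟩ := FiniteField.card (cr ρ (K ⊔ A)) p
    have h8 : g ^ p ^ (n : ℕ) = g := congrArg Subtype.val (hn ▸ FiniteField.pow_card (⟨g, hg⟩ : cr ρ (K ⊔ A)))
    obtain ⟨m, hm⟩ : ∃ m, p ^ (n : ℕ) = m + 1 := ⟨_, (Nat.succ_pred_eq_of_pos (pow_pos hp.pos _)).symm⟩
    have h9 := h6 m
    rw [← hm, h8, (CharP.cast_eq_zero_iff _ p _).2 (dvd_pow_self p n.ne_zero), zero_mul] at h9
    exact sub_eq_zero.1 h9
  have hg : f ^ p - f ∈ cr ρ (K ⊔ A) := hM a ha haB _ (sub_mem (pow_mem hf _) hf) (by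
    rw [map_sub, cjE_pow, hfa, add_pow_char_of_commute _ (Commute.one_right f), one_pow, add_sub_add_right_eq_sub])
  have hpow : ∀ n : ℕ, cjE ρ (a ^ n) f = f + n := fun n => by
    induction n with
    | zero => simp
    | succ n ih => rw [pow_succ, rho_mul, hfa, map_add, ih, cjE_one, Nat.cast_succ, add_assoc]
  refine ⟨B, lt_of_le_of_ne hBA fun e => haB (e ▸ ha), a, ha, f, hf, (cjE_eq_iff.1 hfa).symm, ?_⟩
  have hsub : (A : Set Y) ⊆ (B : Set Y) * (Subgroup.zpowers a : Set Y) := fun b hb => by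
    have h5 := hg b (Subgroup.mem_sup_right hb)
    rw [map_sub, cjE_pow, ← add_sub_cancel f (cjE ρ b f), add_pow_char_of_commute _ (hfc _ (hfA b hb)),
      add_sub_add_comm, add_eq_left, sub_eq_zero] at h5
    obtain ⟨z, hz⟩ := (mem_bot_iff_intCast p _).1
      ((Subfield.mem_bot_iff_pow_eq_self _ p (x := (⟨_, hfA b hb⟩ : cr ρ (K ⊔ A)))).2 (Subtype.ext h5))
    have h6 : ((z : ZMod p).val : End k V) = cjE ρ b f - f := by
      rw [← Int.cast_natCast, ZMod.val_intCast, ← CharP.intCast_eq_intCast_mod]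
      exact congrArg Subtype.val hz
    have h7 : b * (a ^ (z : ZMod p).val)⁻¹ ∈ B := by
      by_contra hc
      refine hfn (hM _ (mul_mem hb (inv_mem (pow_mem ha _))) hc f hf ?_)
      rw [elemAb_comm hA hb (inv_mem (pow_mem ha _)), rho_mul, ← add_sub_cancel f (cjE ρ b f), ← h6, ← hpow,
        rho_inv_apply]
    exact ⟨_, h7, _, pow_mem (Subgroup.mem_zpowers a) _, inv_mul_cancel_right _ _⟩
  refine (Nat.card_mono (Set.toFinite _) hsub).trans (Set.natCard_mul_le.trans (Nat.mul_le_mul_left _ ?_))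
  exact (Nat.card_zpowers a).le.trans (Nat.le_of_dvd hp.pos (orderOf_dvd_of_pow_eq_one (hA.2 a ha)))

theorem dim_as [FiniteDimensional k V] {N f : End k V} (h : N * f = (f + 1) * N + 1) {S C : Submodule k V}
    (hC : C ≤ S ⊓ LinearMap.ker N) (hS : ∀ v ∈ S, f v ∈ S) :
    2 * finrank k C ≤ finrank k S ∧ ((2 : k) ≠ 0 → C ≠ ⊥ → 2 * finrank k C + 1 ≤ finrank k S) := by
  have h0 : ∀ v, N (f v) = f (N v) + N v + v := fun v => LinearMap.congr_fun h v
  have h1 := LinearMap.finrank_range_add_finrank_ker (N.domRestrict S)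
  rw [LinearMap.range_domRestrict, LinearMap.ker_domRestrict] at h1
  have h2 : finrank k C ≤ finrank k ((LinearMap.ker N).comap S.subtype) := by
    rw [← (Submodule.comapSubtypeEquivOfLe (hC.trans inf_le_left)).finrank_eq]
    exact Submodule.finrank_mono (Submodule.comap_mono (hC.trans inf_le_right))
  have h3 : ∀ v ∈ C, N (f v) = v := fun v hv => by
    rw [h0, LinearMap.mem_ker.1 (hC hv).2, map_zero, zero_add, zero_add]
  have h4 : C ≤ S.map N := fun v hv => ⟨_, hS v (hC hv).1, h3 v hv⟩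
  have h5 := Submodule.finrank_mono h4
  refine ⟨by omega, fun h6 h7 => ?_⟩
  obtain ⟨w, hw, hw0⟩ := Submodule.exists_mem_ne_zero_of_ne_bot h7
  have h8 := Submodule.finrank_lt_finrank_of_lt (lt_of_le_of_ne h4 fun e => by
    have h9 : N (f (f w)) ∈ C := e ▸ ⟨_, hS _ (hS w (hC hw).1), rfl⟩
    have h10 := LinearMap.mem_ker.1 (hC h9).2
    rw [h0, h3 w hw, map_add, map_add, h3 w hw, LinearMap.mem_ker.1 (hC hw).2, add_zero, ← two_smul k] at h10
    exact hw0 ((smul_eq_zero.1 h10).resolve_left h6))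
  omega

/-- an offender that is not linear contains a smaller one -/
theorem red_lin [Finite V] [Nontrivial V] [Finite Y] {p : ℕ} [Fact p.Prime] [CharP k p] {K A : Subgroup Y}
    [K.Normal] (hK : Group.IsPerfect K) (hfx : fx ρ K = ⊥) (hA : Off p ρ A) (hirr : Irr ρ (K ⊔ A))
    (hl : ¬ LinOver ρ K A) : (∃ B < A, Off p ρ B) ∨ (p = 2 ∧ finrank k V ≤ 4) := by
  have hp : p.Prime := Fact.out
  obtain ⟨B, hBA, a, ha, f, hf, hfa, hc⟩ := exists_as hA.1 hirr hl
  obtain ⟨r, hr, hr1, hr2⟩ := hA.exists_card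
  have hB := elemAb_of_le hA.1 hBA.le
  obtain ⟨s, hs⟩ := IsPGroup.iff_card.1 (elemAb_isPGroup hB)
  rw [hr1, hs, ← pow_succ, Nat.pow_le_pow_iff_right hp.one_lt] at hc
  have hN : (ρ a - 1) * f = (f + 1) * (ρ a - 1) + 1 := by
    rw [sub_mul, hfa]
    noncomm_ring
  have hC : fx ρ A ≠ ⊥ := by simpa using inf_fx_ne_bot (elemAb_isPGroup hA.1) (inv_top A) top_ne_bot
  have hker : fx ρ A ≤ LinearMap.ker (ρ a - 1) := fun v hv => sub_eq_zero.2 (hv a ha)
  obtain ⟨h1, h2⟩ := dim_as hN (S := fx ρ B) (C := fx ρ A) (le_inf (fx_anti hBA.le) hker) fun v hv b hb => by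
    rw [← End.mul_apply, ← mem_cr'.1 hf b (Subgroup.mem_sup_right hb), End.mul_apply, hv b hb]
  have h3 := cod_add (ρ := ρ) A
  have h4 := cod_add (ρ := ρ) B
  have h5 : 0 < finrank k (fx ρ A) := Nat.pos_of_ne_zero fun e => hC (Submodule.finrank_eq_zero.1 e)
  have h6 : p ≠ 2 → (2 : k) ≠ 0 := fun h e =>
    h ((Nat.prime_dvd_prime_iff_eq hp Nat.prime_two).1 ((CharP.cast_eq_zero_iff k p 2).1 e))
  have h7 : cod ρ B + 2 ≤ 2 * r := by
    by_cases h2p : p = 2
    · subst h2p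
      have h8 := LinearMap.finrank_range_add_finrank_ker (ρ a - 1)
      have h9 : LinearMap.range (ρ a - 1) = LinearMap.ker (ρ a - 1) := by
        refine le_antisymm (LinearMap.range_le_ker_iff.2 ?_) fun v hv => ⟨f v, ?_⟩
        · exact (pow_two _).symm.trans (sub_one_pow (ρ := ρ) (n := 1) (hA.1.2 a ha))
        · rw [← End.mul_apply, hN, LinearMap.add_apply, End.mul_apply, LinearMap.mem_ker.1 hv, map_zero, zero_add,
            End.one_apply]
      rw [h9] at h8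
      omega
    · have := h2 (h6 h2p) hC
      omega
  rcases Nat.eq_zero_or_pos s with rfl | hs0
  swap
  · exact Or.inl ⟨B, hBA, off_of_card hB hs0 hs (by omega)⟩
  by_cases h2p : p = 2
  · exact Or.inr ⟨h2p, by omega⟩
  exfalso
  have h8 := h2 (h6 h2p) hC
  obtain ⟨v, hv, hv0⟩ := Submodule.exists_mem_ne_zero_of_ne_bot hC
  have h9 := (dim_as hN (S := (Algebra.adjoin k {f}).toSubmodule.map (LinearMap.applyₗ v)) (C := k ∙ v)
    ((Submodule.span_singleton_le_iff_mem _ _).2 ⟨⟨1, (Algebra.adjoin k {f}).one_mem, rfl⟩, hker hv⟩) (by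
      rintro _ ⟨g, hg, rfl⟩
      exact ⟨f * g, (Algebra.adjoin k {f}).mul_mem (Algebra.self_mem_adjoin_singleton k f) hg, rfl⟩)).2 (h6 h2p)
    (by simpa using hv0)
  rw [finrank_span_singleton hv0] at h9
  have h10 : (Algebra.adjoin k {f}).toSubmodule.map (LinearMap.applyₗ v) = ⊤ :=
    Submodule.eq_top_of_finrank_eq (le_antisymm (Submodule.finrank_le _) (by omega))
  have h11 : ∀ {g h : End k V}, g ∈ Algebra.adjoin k {f} → h ∈ Algebra.adjoin k {f} → Commute g h := fun hg hh =>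
    Algebra.commute_of_mem_adjoin_singleton_of_commute hh (Algebra.commute_of_mem_adjoin_self hg).symm
  have h12 : ∀ x ∈ K, ρ x ∈ Algebra.adjoin k {f} := fun x hx => by
    obtain ⟨g, hg, e⟩ := h10.ge (Submodule.mem_top (x := ρ x v))
    refine (LinearMap.ext fun w => ?_ : g = ρ x) ▸ hg
    obtain ⟨h, hh, rfl⟩ := h10.ge (Submodule.mem_top (x := w))
    have h13 : Commute (ρ x) h := Algebra.commute_of_mem_adjoin_singleton_of_commute hh
      (mem_cr'.1 hf x (Subgroup.mem_sup_left hx)).symm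
    change (g * h) v = (ρ x * h) v
    rw [h11 hg hh, h13, End.mul_apply, End.mul_apply]
    exact congrArg h e
  exact top_ne_bot (le_bot_iff.1 (hfx ▸ cm_eq_bot_of_perfect hK (inv_top K) fun x hx y hy w _ =>
    LinearMap.congr_fun (h11 (h12 x hx) (h12 y hy)) w))

end Cfsg.Agent.TwoF.Red
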