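import Cfsg.Agent.TwoF.Red.G89
import Cfsg.Agent.S1313

/-!
# TwoF, RED: S3088 and S3089 from `AllRows` (helper7)
-/

set_option autoImplicit false
set_option linter.unusedSectionVars false

namespace Cfsg.Agent.TwoF.Red

open Module Gen Multiplicative
open scoped commutatorElement

variable {p : ℕ} [Fact p.Prime]

theorem stp_of {Y : Type} [Group Y] [Finite Y] {V : Type} [AddCommGroup V] [Module (ZMod p) V] {K : Subgroup Y}
    {ρ : Representation (ZMod p) Y V} [K.Normal] (hq : IsQuasisimple K)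
    (hc : Subgroup.centralizer (K : Set Y) ≤ K) (hf : Function.Injective ρ) (hi : Irr ρ ⊤) : Stp p K ρ := by
  refine ⟨inferInstance, hq, hc, fun hd => ?_, hf, hi⟩
  obtain ⟨z, hz⟩ := exists_prime_orderOf_dvd_card' p hd
  let N : Subgroup Y :=
    { carrier := {y | y ∈ Subgroup.centralizer (K : Set Y) ∧ y ^ p = 1}
      one_mem' := ⟨one_mem _, one_pow _⟩
      mul_mem' := fun {a b} ha hb => ⟨mul_mem ha.1 hb.1, by
        rw [Commute.mul_pow (hb.1 a (hc ha.1)), ha.2, hb.2, mul_one]⟩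
      inv_mem' := fun {a} ha => ⟨inv_mem ha.1, by rw [inv_pow, ha.2, inv_one]⟩ }
  have : N.Normal := ⟨fun a ha g => ⟨Subgroup.Normal.conj_mem inferInstance a ha.1 g, by
    rw [conj_pow, ha.2, mul_one, mul_inv_cancel]⟩⟩
  have h1 : orderOf ((z : K) : Y) = p := by rw [Subgroup.orderOf_coe, Subgroup.orderOf_coe, hz]
  have h2 : N ≠ ⊥ := fun e => by
    have h3 : ((z : K) : Y) ∈ N := ⟨fun g hg => congrArg Subtype.val (Subgroup.mem_center_iff.1 z.2 ⟨g, hg⟩),
      h1 ▸ pow_orderOf_eq_one _⟩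
    rw [e, Subgroup.mem_bot] at h3
    rw [h3, orderOf_one] at h1
    exact (Fact.out : p.Prime).one_lt.ne h1
  have h3 := hi.fx_eq_bot hf (N := N) (by rw [Subgroup.normalizer_eq_top]) h2
  refine inf_fx_ne_bot (p := p) (B := N) (fun a => ⟨1, Subtype.ext ((pow_one p).symm ▸ a.2.2)⟩) (inv_top N)
    (fun e => h2 (eq_bot_of_fx_eq_top hf (h3.trans e.symm))) (by rw [h3, inf_bot_eq])

variable {L : Type*} [Group L] {W Y : Subgroup L} {Y₀ V : Type} [Group Y₀] [AddCommGroup V] [Module (ZMod p) V]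

/-- a linear model of the action of `Y` on `W` -/
structure Mdl (W : Subgroup L) {Y : Subgroup L} (ε : Y₀ ≃* Y) (φ : Multiplicative V →* L)
    (ρ : Representation (ZMod p) Y₀ V) : Prop where
  inj : Function.Injective φ
  range : φ.range = W
  act : ∀ y v, φ (ofAdd (ρ y v)) = ε y * φ (ofAdd v) * (ε y : L)⁻¹

theorem exists_mdl [Finite L] (hW : IsElementaryAbelian p W) (hYW : Y ≤ Subgroup.normalizer (W : Set L)) :
    ∃ (Y₀ V : Type) (_ : Group Y₀) (_ : AddCommGroup V) (_ : Module (ZMod p) V) (ε : Y₀ ≃* Y)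
      (φ : Multiplicative V →* L) (ρ : Representation (ZMod p) Y₀ V), Mdl W ε φ ρ := by
  let _ : CommGroup W := { (inferInstance : Group W) with mul_comm := hW.1.1.1 }
  let φ : Multiplicative (Additive (Shrink.{0} W)) →* L :=
    W.subtype.comp (Shrink.mulEquiv.toMonoidHom.comp (MulEquiv.multiplicativeAdditive _).toMonoidHom)
  have h1 : Function.Injective φ :=
    W.subtype_injective.comp (Shrink.mulEquiv.injective.comp (MulEquiv.multiplicativeAdditive _).injective)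
  have h2 : φ.range = W := by
    rw [MonoidHom.range_comp, MonoidHom.range_eq_top.2
      (Shrink.mulEquiv.surjective.comp (MulEquiv.multiplicativeAdditive _).surjective), ← MonoidHom.range_eq_map,
      Subgroup.range_subtype]
  have h1' : ∀ {u v}, φ (ofAdd u) = φ (ofAdd v) → u = v := fun h => ofAdd.injective (h1 h)
  let _ : Module (ZMod p) (Additive (Shrink.{0} W)) := AddCommGroup.zmodModule fun x => h1' (by
    rw [ofAdd_nsmul, map_pow, ofAdd_zero, map_one]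
    exact hW.2 _ (h2.le ⟨_, rfl⟩))
  let ε : Shrink.{0} Y ≃* Y := Shrink.mulEquiv
  have h3 : ∀ y v, ∃ u, φ (ofAdd u) = ε y * φ (ofAdd v) * (ε y : L)⁻¹ := fun y v =>
    h2.ge ((Subgroup.mem_normalizer_iff.1 (hYW (ε y).2) _).1 (h2.le ⟨_, rfl⟩))
  choose c hc using h3
  refine ⟨_, _, inferInstance, inferInstance, inferInstance, ε, φ,
    { toFun := fun y => (AddMonoidHom.mk' (c y) fun u v => h1' ?_).toZModLinearMap p
      map_one' := LinearMap.ext fun v => h1' ?_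
      map_mul' := fun a b => LinearMap.ext fun v => h1' ?_ }, h1, h2, hc⟩
  · rw [ofAdd_add, map_mul, hc, hc, hc, ofAdd_add, map_mul]
    group
  · exact (hc 1 v).trans (by simp)
  · refine (hc _ v).trans (Eq.trans ?_ (hc a (c b v)).symm)
    rw [hc, map_mul, Subgroup.coe_mul]
    group

/-- the submodule of a subgroup -/
def md (p : ℕ) [Module (ZMod p) V] (φ : Multiplicative V →* L) (U : Subgroup L) : Submodule (ZMod p) V :=
  AddSubgroup.toZModSubmodule p (Subgroup.toAddSubgroup' (U.comap φ))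

/-- the subgroup of a submodule -/
def sb (φ : Multiplicative V →* L) (U : Submodule (ZMod p) V) : Subgroup L :=
  (AddSubgroup.toSubgroup U.toAddSubgroup).map φ

variable {ε : Y₀ ≃* Y} {φ : Multiplicative V →* L} {ρ : Representation (ZMod p) Y₀ V}

theorem mem_md {U : Subgroup L} {v : V} : v ∈ md p φ U ↔ φ (ofAdd v) ∈ U := Iff.rfl

theorem mem_sb {U : Submodule (ZMod p) V} {x : L} : x ∈ sb φ U ↔ ∃ v ∈ U, φ (ofAdd v) = x := Iff.rfl

/-- the image of a subgroup -/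
abbrev im (ε : Y₀ ≃* Y) (B : Subgroup Y₀) : Subgroup L := B.map (Y.subtype.comp ε.toMonoidHom)

theorem im_inj (ε : Y₀ ≃* Y) : Function.Injective (Y.subtype.comp ε.toMonoidHom) :=
  Y.subtype_injective.comp ε.injective

theorem im_le (B : Subgroup Y₀) : im ε B ≤ Y := by
  rintro _ ⟨b, -, rfl⟩
  exact (ε b).2

theorem card_im (B : Subgroup Y₀) : Nat.card (im ε B) = Nat.card B := Subgroup.card_map_of_injective (im_inj ε)

theorem exists_im {A : Subgroup L} (h : A ≤ Y) : ∃ B, im ε B = A :=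
  ⟨_, Subgroup.map_comap_eq_self fun a ha => ⟨ε.symm ⟨a, h ha⟩, congrArg Subtype.val (ε.apply_symm_apply _)⟩⟩

theorem elemAb_of_im {B : Subgroup Y₀} (h : IsElementaryAbelian p (im ε B)) : IsElementaryAbelian p B :=
  elemAb_of (fun a ha b hb => im_inj ε (by
    rw [map_mul, map_mul]
    exact elemAb_comm h ⟨a, ha, rfl⟩ ⟨b, hb, rfl⟩)) fun a ha => im_inj ε (by
    rw [map_pow, map_one]
    exact h.2 _ ⟨a, ha, rfl⟩)

namespace Mdl

variable (M : Mdl W ε φ ρ)

include M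

theorem finite [Finite L] : Finite V := Finite.of_injective (fun v => φ (ofAdd v)) (M.inj.comp ofAdd.injective)

theorem sb_le (U : Submodule (ZMod p) V) : sb φ U ≤ W := M.range ▸ Subgroup.map_le_range _ _

theorem md_sb (U : Submodule (ZMod p) V) : md p φ (sb φ U) = U :=
  Submodule.ext fun v => ⟨fun ⟨u, hu, e⟩ => ofAdd.injective (M.inj e) ▸ hu, fun hv => ⟨v, hv, rfl⟩⟩

theorem sb_md {U : Subgroup L} (h : U ≤ W) : sb φ (md p φ U) = U := by
  refine le_antisymm ?_ fun x hx => ?_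
  · rintro _ ⟨v, hv, rfl⟩
    exact hv
  · obtain ⟨v, rfl⟩ := M.range.ge (h hx)
    exact ⟨v, hx, rfl⟩

theorem md_top : md p φ W = ⊤ := eq_top_iff.2 fun _ _ => M.range.le ⟨_, rfl⟩

theorem md_bot : md p φ ⊥ = ⊥ := eq_bot_iff.2 fun _ hv => ofAdd.injective (M.inj (hv.trans (map_one φ).symm))

theorem card_md [Finite L] {U : Subgroup L} (h : U ≤ W) : p ^ finrank (ZMod p) (md p φ U) = Nat.card U := by
  have := M.finite
  conv_rhs => rw [← M.sb_md h, sb, Subgroup.card_map_of_injective M.inj]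
  have h1 := natCard_eq_pow_finrank (K := ZMod p) (V := md p φ U)
  rw [Nat.card_zmod] at h1
  exact h1.symm

theorem fx_eq (B : Subgroup Y₀) : fx ρ B = md p φ (Subgroup.centralizer (im ε B : Set L)) := by
  ext v
  refine ⟨?_, fun h b hb => ofAdd.injective (M.inj ?_)⟩
  · rintro h _ ⟨b, hb, rfl⟩
    exact mul_inv_eq_iff_eq_mul.1 ((M.act b v).symm.trans (congrArg (fun u => φ (ofAdd u)) (h b hb)))
  · exact (M.act b v).trans (mul_inv_eq_iff_eq_mul.2 (h _ ⟨b, hb, rfl⟩))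

theorem codOn_le_iff [Finite L] {U : Subgroup L} (h : U ≤ W) (B : Subgroup Y₀) (n : ℕ) :
    p ^ codOn ρ (md p φ U) B ≤ n ↔
      Nat.card U ≤ n * Nat.card ↥(U ⊓ Subgroup.centralizer (im ε B : Set L)) := by
  have := M.finite
  have h1 : md p φ U ⊓ fx ρ B = md p φ (U ⊓ Subgroup.centralizer (im ε B : Set L)) := by
    rw [M.fx_eq]
    rfl
  rw [← M.card_md h, ← M.card_md (inf_le_left.trans h), ← h1, ← codOn_add (ρ := ρ) (md p φ U) B, pow_add,
    Nat.mul_le_mul_right_iff (pow_pos (Fact.out : p.Prime).pos _)]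

theorem inv_md {U : Subgroup L} {B : Subgroup Y₀} (h : im ε B ≤ Subgroup.normalizer (U : Set L)) :
    Inv ρ B (md p φ U) := fun b hb v hv => by
  rw [mem_md, M.act]
  exact (Subgroup.mem_normalizer_iff.1 (h ⟨b, hb, rfl⟩) _).1 hv

theorem le_normalizer {U : Submodule (ZMod p) V} {B : Subgroup Y₀} (h : Inv ρ B U) :
    im ε B ≤ Subgroup.normalizer (sb φ U : Set L) := by
  rintro _ ⟨b, hb, rfl⟩
  refine Subgroup.mem_normalizer_iff.2 fun x => ⟨?_, ?_⟩
  · rintro ⟨v, hv, rfl⟩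
    exact ⟨_, h b hb v hv, M.act b v⟩
  · rintro ⟨v, hv, e⟩
    refine ⟨_, h _ (inv_mem hb) v hv, (M.act b⁻¹ v).trans ?_⟩
    have e' : φ (ofAdd (toAdd v)) = ε b * x * (ε b : L)⁻¹ := e
    rw [map_inv, Subgroup.coe_inv]
    exact e' ▸ by group

theorem smp {U : Subgroup L} (hU : U ≤ W) (h1 : U ≠ ⊥) {B : Subgroup Y₀}
    (hi : im ε B ≤ Subgroup.normalizer (U : Set L))
    (hm : ∀ X ≤ U, im ε B ≤ Subgroup.normalizer (X : Set L) → X = ⊥ ∨ X = U) : Smp ρ B (md p φ U) := by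
  refine ⟨fun e => h1 (by rw [← M.sb_md hU, e, ← M.md_bot, M.sb_md bot_le]), M.inv_md hi, fun X hX h => ?_⟩
  refine (hm (sb φ X) ?_ (M.le_normalizer h)).imp (fun e => ?_) fun e => ?_
  · rintro _ ⟨v, hv, rfl⟩
    exact hX hv
  · rw [← M.md_sb X, e, M.md_bot]
  · rw [← M.md_sb X, e]

theorem commutator_le {U : Subgroup L} {X : Submodule (ZMod p) V} (h : U ≤ sb φ X) (B : Subgroup Y₀) :
    ⁅U, im ε B⁆ ≤ sb φ (cm ρ X B) := by
  refine Subgroup.commutator_le.2 ?_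
  rintro u hu _ ⟨b, hb, rfl⟩
  obtain ⟨v, hv, rfl⟩ := mem_sb.1 (h hu)
  refine mem_sb.2 ⟨_, mem_cm hb (neg_mem hv), ?_⟩
  rw [sub_neg_eq_add, add_comm, ofAdd_add, map_mul, M.act, ofAdd_neg, map_inv, commutatorElement_def]
  simp only [mul_assoc]
  rfl

theorem stp [Finite L] (hf : Y ⊓ Subgroup.centralizer (W : Set L) = ⊥)
    (hirr : ∀ U : Subgroup L, U ≤ W → Y ≤ Subgroup.normalizer (U : Set L) → U = ⊥ ∨ U = W)
    (hq : IsQuasisimple ↥(generalizedFittingSubgroup ↥Y)) :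
    Stp p ((generalizedFittingSubgroup ↥Y).map ε.symm.toMonoidHom) ρ := by
  have : Finite Y₀ := Finite.of_equiv _ ε.symm.toEquiv
  have : ((generalizedFittingSubgroup ↥Y).map ε.symm.toMonoidHom).Normal := by
    have := SignalizersComponents.ComponentExists.fittingSubgroup_normal Y
    have := SignalizersComponents.Components.layer_normal Y
    exact Subgroup.Normal.map (inferInstanceAs (layer Y ⊔ fittingSubgroup Y).Normal) _ ε.symm.surjective
  refine stp_of (SignalizersComponents.Components.isQuasisimple_of_mulEquiv (ε.symm.subgroupMap _) hq)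
    (fun y hy => ⟨ε y, S1313.centralizer_le Y fun g hg => ?_, ε.symm_apply_apply y⟩)
    ((injective_iff_map_eq_one _).2 fun y hy => im_inj ε ?_) fun U hU => ?_
  · have h1 := congrArg ε (hy _ ⟨g, hg, rfl⟩)
    simpa using h1
  · rw [map_one]
    refine hf.le ⟨(ε y).2, fun w hw => ?_⟩
    obtain ⟨v, rfl⟩ := M.range.ge hw
    have h1 := M.act y (toAdd v)
    rw [hy] at h1
    exact eq_mul_inv_iff_mul_eq.1 h1
  · refine (hirr _ (M.sb_le U) (le_trans (fun y hy => ?_) (M.le_normalizer hU))).imp (fun e => ?_) fun e => ?_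
    · exact ⟨ε.symm ⟨y, hy⟩, trivial, congrArg Subtype.val (ε.apply_symm_apply _)⟩
    · rw [← M.md_sb U, e, M.md_bot]
    · rw [← M.md_sb U, e, M.md_top]

theorem off_iff [Finite L] {U : Subgroup L} (h : U ≤ W) (B : Subgroup Y₀) : OffOn p ρ (md p φ U) B ↔
    IsElementaryAbelian p (im ε B) ∧ im ε B ≠ ⊥ ∧
      Nat.card U ≤ Nat.card (im ε B) ^ 2 * Nat.card ↥(U ⊓ Subgroup.centralizer (im ε B : Set L)) := by
  rw [OffOn, M.codOn_le_iff h, card_im, Ne, Ne, Subgroup.map_eq_bot_iff_of_injective _ (im_inj ε)]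
  exact and_congr_left' ⟨fun h => elemAb_map h _, elemAb_of_im⟩

end Mdl

theorem not_comm {K : Type*} [Group K] (h : IsQuasisimple K) : ¬ IsMulCommutative (K ⧸ Subgroup.center K) := by
  intro hc
  have := h.1
  have := h.2
  have : Group.IsPerfect (K ⧸ Subgroup.center K) :=
    Group.IsPerfect.ofSurjective (QuotientGroup.mk'_surjective (Subgroup.center K))
  exact Group.IsPerfect.not_isSolvable (K ⧸ Subgroup.center K) (isSolvable_of_comm hc.1.1)

theorem main88 (hR : AllRows) {L : Type*} [Group L] [Finite L]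
    (ℓ : ℕ) [Fact ℓ.Prime] (W Y : Subgroup L) (hW : Cfsg.IsElementaryAbelian ℓ W)
    (hYW : Y ≤ Subgroup.normalizer (W : Set L)) (hf : Y ⊓ Subgroup.centralizer (W : Set L) = ⊥)
    (hirr : ∀ U : Subgroup L, U ≤ W → Y ≤ Subgroup.normalizer (U : Set L) → U = ⊥ ∨ U = W)
    (hq : Cfsg.IsQuasisimple ↥(Cfsg.generalizedFittingSubgroup ↥Y))
    (A : Subgroup L) (hAY : A ≤ Y) (hA : Cfsg.IsElementaryAbelian ℓ A) (hA1 : A ≠ ⊥)
    (h2F : Nat.card ↥W ≤ Nat.card ↥A ^ 2 * Nat.card ↥(W ⊓ Subgroup.centralizer (A : Set L))) :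
    ∃ B : Subgroup L, B ≤ Y ∧ Cfsg.IsElementaryAbelian ℓ B ∧ B ≠ ⊥ ∧
      Nat.card ↥W ≤ Nat.card ↥B ^ 2 * Nat.card ↥(W ⊓ Subgroup.centralizer (B : Set L)) ∧
      ⁅⁅⁅W, B⁆, B⁆, B⁆ = ⊥ := by
  obtain ⟨Y₀, V, _, _, _, ε, φ, ρ, M⟩ := exists_mdl hW hYW
  have := M.finite
  have : Finite Y₀ := Finite.of_equiv _ ε.symm.toEquiv
  have h := M.stp hf hirr hq
  have := h.qs.2
  obtain ⟨A, rfl⟩ := exists_im (ε := ε) hAY
  obtain ⟨B, hB, hc⟩ := (hR ℓ _ (not_comm h.qs)).1 Y₀ V _ ρ h ⟨MulEquiv.refl _⟩ A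
    (offOn_top.1 (M.md_top ▸ (M.off_iff le_rfl A).2 ⟨hA, hA1, h2F⟩))
  obtain ⟨h1, h2, h3⟩ := (M.off_iff le_rfl B).1 (M.md_top ▸ offOn_top.2 hB)
  refine ⟨_, im_le B, h1, h2, h3, eq_bot_iff.2 ?_⟩
  have h4 := M.commutator_le (M.commutator_le (M.commutator_le (M.sb_md le_rfl).ge B) B) B
  rwa [M.md_top, cub_iff.1 hc, ← M.md_bot, M.sb_md bot_le] at h4

theorem main89 (hR : AllRows) (hFT : ∀ (S : Type) [Group S] [Finite S], Odd (Nat.card S) → Group.IsSolvable S)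
    {L : Type*} [Group L] [Finite L]
    (ℓ : ℕ) [Fact ℓ.Prime] (W Y : Subgroup L) (hW : Cfsg.IsElementaryAbelian ℓ W)
    (hYW : Y ≤ Subgroup.normalizer (W : Set L)) (hf : Y ⊓ Subgroup.centralizer (W : Set L) = ⊥)
    (hirr : ∀ U : Subgroup L, U ≤ W → Y ≤ Subgroup.normalizer (U : Set L) → U = ⊥ ∨ U = W)
    (hq : Cfsg.IsQuasisimple ↥(Cfsg.generalizedFittingSubgroup ↥Y))
    (A : Subgroup L) (hAY : A ≤ Y) (hA : Cfsg.IsElementaryAbelian ℓ A) (hA1 : A ≠ ⊥)
    (h2F : Nat.card ↥W ≤ Nat.card ↥A ^ 2 * Nat.card ↥(W ⊓ Subgroup.centralizer (A : Set L)))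
    (U : Subgroup L) (hUW : U ≤ W) (hU1 : U ≠ ⊥)
    (hUinv : (Cfsg.generalizedFittingSubgroup ↥Y).map Y.subtype ≤ Subgroup.normalizer (U : Set L))
    (hUmin : ∀ U' : Subgroup L, U' ≤ U → U' ≠ ⊥ →
      (Cfsg.generalizedFittingSubgroup ↥Y).map Y.subtype ≤ Subgroup.normalizer (U' : Set L) → U' = U) :
    ∃ B : Subgroup L, B ≤ (Cfsg.generalizedFittingSubgroup ↥Y).map Y.subtype ∧ Cfsg.IsElementaryAbelian ℓ B ∧
      B ≠ ⊥ ∧ ¬ B ≤ Subgroup.centralizer (U : Set L) ∧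
      Nat.card ↥U ≤ Nat.card ↥B ^ 2 * Nat.card ↥(U ⊓ Subgroup.centralizer (B : Set L)) := by
  obtain ⟨Y₀, V, _, _, _, ε, φ, ρ, M⟩ := exists_mdl hW hYW
  have := M.finite
  have : Finite Y₀ := Finite.of_equiv _ ε.symm.toEquiv
  have h := M.stp hf hirr hq
  have := h.qs.2
  have := h.normal
  have hK : im ε ((generalizedFittingSubgroup ↥Y).map ε.symm.toMonoidHom) =
      (generalizedFittingSubgroup ↥Y).map Y.subtype := by
    rw [im, Subgroup.map_map]
    congr 1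
    exact MonoidHom.ext fun y => congrArg Subtype.val (ε.apply_symm_apply y)
  rw [← hK] at hUinv hUmin ⊢
  obtain ⟨A, rfl⟩ := exists_im (ε := ε) hAY
  obtain ⟨B, hB, X, h0, hX, hO⟩ := g89_of_row (hR ℓ _ (not_comm h.qs)).2 (by
      by_contra h2
      have := hFT _ (Nat.not_even_iff_odd.1 fun e => h2 e.two_dvd)
      exact not_comm h.qs ⟨⟨IsSimpleGroup.comm_iff_isSolvable.2 this⟩⟩) h ⟨MulEquiv.refl _⟩ A
    (offOn_top.1 (M.md_top ▸ (M.off_iff le_rfl A).2 ⟨hA, hA1, h2F⟩))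
  have hS := M.smp hUW hU1 hUinv fun X hX hi => or_iff_not_imp_left.2 fun e => hUmin X hX e hi
  obtain ⟨B', hB', hO'⟩ := offOn_smp (Fact.out : ℓ.Prime).pos h.irr hS h0 hX hB hO
  obtain ⟨h1, h2, h3⟩ := (M.off_iff hUW B').1 hO'
  refine ⟨_, Subgroup.map_mono hB', h1, h2, fun hc => ?_, h3⟩
  have h4 : B' ≤ cen ρ (md ℓ φ U) := le_cen_iff.2 (M.fx_eq B' ▸ fun v hv => Subgroup.le_centralizer_iff.1 hc hv)
  rcases h.normal_cases (N := cen ρ (md ℓ φ U)) (fun x hx => Subgroup.mem_normalizer_iff.2 fun y => by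
    rw [mem_cen, mem_cen]
    refine ⟨fun hy v hv => ?_, fun hy v hv => rho_injective ρ x ?_⟩
    · rw [rho_mul, rho_mul, hy _ (hS.inv _ (inv_mem hx) v hv), rho_apply_inv]
    · have := hy _ (hS.inv x hx v hv)
      rwa [rho_mul, rho_inv_apply, rho_mul] at this) with e | e
  · exact hS.ne (eq_bot_iff.2 (h.fx_K ▸ le_cen_iff.1 e))
  · exact hO'.2.1 (h.eq_bot_of_le_centralizer (elemAb_isPGroup hO'.1) (h4.trans e))

end Cfsg.Agent.TwoF.Red
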